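import Groth.Prelude.Def_Found
import Groth.Agent.EGA4Lib.FibreBC
import Groth.Agent.CAlg48.GeomReg
import Mathlib

/-!
# Geometrically regular fibres, read on affine opens of the fibre
-/

set_option autoImplicit false
set_option linter.style.haveILetI false

universe u

open AlgebraicGeometry CategoryTheory Limits TensorProduct

namespace Groth.Agent.RegFibre24

theorem isGeometricallyRegular_of_ringEquiv {k k' S S' : Type u} [Field k] [Field k'] [CommRing S]
    [CommRing S'] [Algebra k S] [Algebra k' S'] (e : k ≃+* k') (f : S ≃+* S')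
    (hc : ∀ x, f (algebraMap k S x) = algebraMap k' S' (e x)) (h : CAlg.IsGeometricallyRegular k S) :
    CAlg.IsGeometricallyRegular k' S' := by
  letI : Algebra k k' := e.toRingHom.toAlgebra
  haveI : Module.Finite k k' := Module.Finite.of_surjective (Algebra.linearMap k k') e.surjective
  letI : Algebra k S' := ((algebraMap k' S').comp e.toRingHom).toAlgebra
  haveI : IsScalarTower k k' S' := IsScalarTower.of_algebraMap_eq fun _ => rfl
  let f' : S →ₐ[k] S' := { f.toRingHom with commutes' := hc }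
  let ψ : k' ⊗[k] S →ₐ[k'] S' :=
    Algebra.TensorProduct.lift (Algebra.ofId k' S') f' fun _ _ => Commute.all _ _
  have hψ : ∀ s, ψ ((1 : k') ⊗ₜ[k] s) = f s := fun s => by
    rw [Algebra.TensorProduct.lift_tmul, map_one, one_mul]
    rfl
  have hone : ∀ x : k' ⊗[k] S, ∃ s, x = (1 : k') ⊗ₜ[k] s := by
    intro x
    induction x using TensorProduct.induction_on with
    | zero => exact ⟨0, by rw [TensorProduct.tmul_zero]⟩
    | tmul a s =>
      obtain ⟨a, rfl⟩ := e.surjective a
      refine ⟨a • s, ?_⟩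
      rw [← TensorProduct.smul_tmul, Algebra.smul_def, mul_one]
      rfl
    | add x y hx hy =>
      obtain ⟨s, rfl⟩ := hx
      obtain ⟨t, rfl⟩ := hy
      exact ⟨s + t, (TensorProduct.tmul_add _ _ _).symm⟩
  have hbij : Function.Bijective ψ := by
    refine ⟨fun x y hxy => ?_, fun t => ⟨(1 : k') ⊗ₜ[k] f.symm t, by rw [hψ, f.apply_symm_apply]⟩⟩
    obtain ⟨s, rfl⟩ := hone x
    obtain ⟨t, rfl⟩ := hone y
    rw [hψ, hψ] at hxy
    rw [f.injective hxy]
  exact EGA4Lib.isGeometricallyRegular_congr k' _ (AlgEquiv.ofBijective ψ hbij)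
    (EGA4Lib.isGeometricallyRegular_baseChange k k' S h)

variable {k S : Type u} [Field k] [CommRing S] [Algebra k S]

theorem isGeometricallyRegular_away (h : CAlg.IsGeometricallyRegular k S) (g : S) (T : Type u) [CommRing T]
    [Algebra k T] [Algebra S T] [IsScalarTower k S T] [IsLocalization.Away g T] :
    CAlg.IsGeometricallyRegular k T := by
  intro L _ _ hL
  haveI := h L hL
  haveI := CAlg48.GeomReg.isRegularRing_of_isLocalization (Submonoid.powers ((1 : L) ⊗ₜ[k] g))
    (Localization.Away ((1 : L) ⊗ₜ[k] g : L ⊗[k] S))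
  exact IsRegularRing.of_ringEquiv (IsLocalization.Away.tensorProductEquivTMulRight k L g T).symm.toRingEquiv

theorem isGeometricallyRegular_of_span [IsNoetherianRing S] (s : Set S) (hs : Ideal.span s = ⊤)
    (h : ∀ g ∈ s, CAlg.IsGeometricallyRegular k (Localization.Away g)) :
    CAlg.IsGeometricallyRegular k S := by
  intro L _ _ hL
  haveI := hL
  haveI : IsNoetherianRing (S ⊗[k] L) := IsNoetherianRing.of_finite S _
  haveI : IsNoetherianRing (L ⊗[k] S) :=
    isNoetherianRing_of_ringEquiv _ (Algebra.TensorProduct.comm k S L).toRingEquiv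
  rw [isRegularRing_iff]
  intro Q _
  obtain ⟨g, hg, hgQ⟩ : ∃ g ∈ s, ((1 : L) ⊗ₜ[k] g : L ⊗[k] S) ∉ Q := by
    by_contra! hc
    have hle : Ideal.span s ≤ Q.comap (Algebra.TensorProduct.includeRight : S →ₐ[k] L ⊗[k] S).toRingHom :=
      Ideal.span_le.2 fun g hg => hc g hg
    rw [hs, top_le_iff, Ideal.comap_eq_top_iff] at hle
    exact Ideal.IsPrime.ne_top inferInstance hle
  let x : L ⊗[k] S := (1 : L) ⊗ₜ[k] g
  haveI : IsRegularRing (Localization.Away x) := by
    haveI := h g hg L hL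
    exact IsRegularRing.of_ringEquiv (IsLocalization.Away.tensorProductEquivTMulRight k L g (Localization.Away g)).toRingEquiv
  let T := Localization.Away x
  have hdisj : Disjoint (Submonoid.powers x : Set (L ⊗[k] S)) (Q : Set (L ⊗[k] S)) := by
    rw [Set.disjoint_left]
    rintro _ ⟨n, rfl⟩ hn
    exact hgQ (Ideal.IsPrime.mem_of_pow_mem ‹_› n hn)
  haveI hQT : (Q.map (algebraMap (L ⊗[k] S) T)).IsPrime :=
    IsLocalization.isPrime_of_isPrime_disjoint (Submonoid.powers x) T Q ‹_› hdisj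
  have hcomap : (Q.map (algebraMap (L ⊗[k] S) T)).comap (algebraMap (L ⊗[k] S) T) = Q :=
    IsLocalization.comap_map_of_isPrime_disjoint (Submonoid.powers x) T ‹Q.IsPrime› hdisj
  haveI := IsRegularRing.isRegularLocalRing_localization (Q.map (algebraMap (L ⊗[k] S) T))
  have key : ∀ (I J : Ideal (L ⊗[k] S)) [I.IsPrime] [J.IsPrime], I = J →
      IsRegularLocalRing (Localization.AtPrime I) → IsRegularLocalRing (Localization.AtPrime J) := by
    intro I J _ _ h; subst h; exact id
  refine key _ _ hcomap ?_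
  let Q' := Q.map (algebraMap (L ⊗[k] S) T)
  haveI : IsLocalization.AtPrime (Localization.AtPrime Q') (Q'.comap (algebraMap (L ⊗[k] S) T)) :=
    IsLocalization.isLocalization_isLocalization_atPrime_isLocalization (M := Submonoid.powers x)
      (Localization.AtPrime Q') Q'
  exact IsRegularLocalRing.of_ringEquiv
    (IsLocalization.algEquiv (Q'.comap (algebraMap (L ⊗[k] S) T)).primeCompl (Localization.AtPrime Q')
      (Localization.AtPrime (Q'.comap (algebraMap (L ⊗[k] S) T)))).toRingEquiv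

variable {X Y : Scheme.{u}} (f : X ⟶ Y)

/-- The structure map of an affine open of a fibre over the residue field. -/
noncomputable abbrev fibreAlgMap (y : Y) (W : (f.fiber y).Opens) : Y.residueField y ⟶ Γ(f.fiber y, W) :=
  (Scheme.ΓSpecIso (Y.residueField y)).inv ≫ (f.fiberToSpecResidueField y).appTop ≫
    (f.fiber y).presheaf.map (homOfLE le_top).op

/-- Geometric regularity of an affine open of a fibre. -/
def GR (y : Y) (W : (f.fiber y).Opens) : Prop :=
  letI : Algebra ↑(Y.residueField y) ↑Γ(f.fiber y, W) := (fibreAlgMap f y W).hom.toAlgebra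
  CAlg.IsGeometricallyRegular ↑(Y.residueField y) ↑Γ(f.fiber y, W)

/-- The preimage of an affine open in a fibre has coordinate ring the algebraic fibre. -/
theorem exists_fibre_chart {V : Y.Opens} (hV : IsAffineOpen V) {U : X.Opens} (hU : IsAffineOpen U)
    (hle : U ≤ f ⁻¹ᵁ V) (p : PrimeSpectrum Γ(Y, V)) (y : Y) (hp : hV.fromSpec p = y) :
    letI := (f.appLE V U hle).hom.toAlgebra
    ∃ (W : (f.fiber y).Opens) (_ : IsAffineOpen W) (e : Y.residueField y ≃+* p.asIdeal.ResidueField)
      (E : Γ(f.fiber y, W) ≃+* p.asIdeal.Fiber Γ(X, U)),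
      (∀ x, E ((fibreAlgMap f y W).hom x) = algebraMap p.asIdeal.ResidueField _ (e x)) ∧
      ∀ z, f.fiberι y z ∈ U → z ∈ W := by
  letI := (f.appLE V U hle).hom.toAlgebra
  let jS := hV.fromSpec
  let jX := hU.fromSpec
  let φ := f.appLE V U hle
  have hsq : Spec.map φ ≫ jS = jX ≫ f := IsAffineOpen.SpecMap_appLE_fromSpec f hV hU hle
  let e : Y.residueField y ⟶ CommRingCat.of p.asIdeal.ResidueField :=
    (Y.residueFieldCongr hp).inv ≫ jS.residueFieldMap p ≫ (Scheme.Spec.residueFieldIso Γ(Y, V) p).hom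
  haveI : IsIso e := by dsimp [e, jS]; infer_instance
  have he : Spec.map e ≫ Y.fromSpecResidueField y =
      Spec.map (CommRingCat.ofHom (algebraMap Γ(Y, V) p.asIdeal.ResidueField)) ≫ jS := by
    rw [← cancel_epi (Spec.map (Scheme.Spec.residueFieldIso Γ(Y, V) p).inv),
      ← Category.assoc _ (Spec.map (CommRingCat.ofHom _)),
      Scheme.Spec.map_residueFieldIso_inv_eq_fromSpecResidueField]
    refine Eq.trans ?_ (Scheme.Hom.SpecMap_residueFieldMap_fromSpecResidueField jS p)
    simp only [e, Spec.map_comp, Category.assoc, Scheme.residueFieldCongr_inv,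
      Scheme.residueFieldCongr_fromSpecResidueField]
    rw [← Spec.map_comp_assoc, Iso.hom_inv_id, Spec.map_id, Category.id_comp]
  let A' := p.asIdeal.Fiber Γ(X, U)
  let a : Spec (.of A') ⟶ Spec Γ(X, U) :=
    Spec.map (CommRingCat.ofHom (Algebra.TensorProduct.includeRight (R := Γ(Y, V))
      (A := p.asIdeal.ResidueField) (B := Γ(X, U))).toRingHom)
  let b : Spec (.of A') ⟶ Spec (.of p.asIdeal.ResidueField) :=
    Spec.map (CommRingCat.ofHom (algebraMap p.asIdeal.ResidueField A'))
  have h1 : IsPullback a b (Spec.map φ)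
      (Spec.map (CommRingCat.ofHom (algebraMap Γ(Y, V) p.asIdeal.ResidueField))) :=
    isPullback_SpecMap_of_isPushout (CommRingCat.ofHom (algebraMap Γ(Y, V) Γ(X, U)))
      (CommRingCat.ofHom (algebraMap Γ(Y, V) p.asIdeal.ResidueField)) _ _
      (CommRingCat.isPushout_tensorProduct Γ(Y, V) p.asIdeal.ResidueField Γ(X, U)).flip
  have h2 : IsPullback a (b ≫ Spec.map e) (jX ≫ f) (Y.fromSpecResidueField y) := by
    have hm : IsPullback (Spec.map (CommRingCat.ofHom (algebraMap Γ(Y, V) p.asIdeal.ResidueField)))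
        (𝟙 _) jS (Spec.map (CommRingCat.ofHom (algebraMap Γ(Y, V) p.asIdeal.ResidueField)) ≫ jS) :=
      IsPullback.of_vert_isIso_mono ⟨by simp⟩
    refine (h1.paste_vert hm).of_iso (Iso.refl _) (Iso.refl _) (asIso (Spec.map e)) (Iso.refl _)
      ?_ ?_ ?_ ?_
    · simp
    · simp
    · simp [← hsq]
    · simp [he]
  let i0 : Spec (.of A') ⟶ f.fiber y := pullback.lift (a ≫ jX) (b ≫ Spec.map e)
    (by rw [Category.assoc]; exact h2.w)
  have hb : i0 ≫ f.fiberToSpecResidueField y = b ≫ Spec.map e := pullback.lift_snd _ _ _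
  have hi0 : IsPullback a i0 jX (f.fiberι y) := by
    refine IsPullback.of_bot ?_ (pullback.lift_fst _ _ _).symm (IsPullback.of_hasPullback _ _)
    have hb' : i0 ≫ pullback.snd f (Y.fromSpecResidueField y) = b ≫ Spec.map e := hb
    exact hb'.symm ▸ h2
  haveI : IsOpenImmersion i0 := MorphismProperty.of_isPullback hi0 (inferInstanceAs (IsOpenImmersion hU.fromSpec))
  let E : Γ(f.fiber y, i0 ''ᵁ ⊤) ⟶ CommRingCat.of A' :=
    (i0.appIso ⊤).hom ≫ (Scheme.ΓSpecIso (CommRingCat.of A')).hom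
  haveI : IsIso E := by dsimp [E]; infer_instance
  have hcompat : fibreAlgMap f y (i0 ''ᵁ ⊤) ≫ E = e ≫ CommRingCat.ofHom (algebraMap p.asIdeal.ResidueField A') := by
    simp only [E, fibreAlgMap, Category.assoc]
    rw [Scheme.Hom.appIso_hom', Scheme.Hom.map_appLE_assoc]
    rw [show i0.appLE ⊤ ⊤ (le_top.trans_eq (by simp)) = i0.appTop by simp [Scheme.Hom.appLE]]
    rw [← Scheme.Hom.comp_appTop_assoc, hb]
    simp only [b, ← Spec.map_comp]
    rw [Scheme.ΓSpecIso_naturality, Iso.inv_hom_id_assoc]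
  refine ⟨i0 ''ᵁ ⊤, (isAffineOpen_top _).image_of_isOpenImmersion i0, (asIso e).commRingCatIsoToRingEquiv,
    (asIso E).commRingCatIsoToRingEquiv, fun x => ?_, fun z hz => ?_⟩
  · exact congrArg (fun m => m.hom x) hcompat
  · obtain ⟨t, ht⟩ : f.fiberι y z ∈ Set.range jX := hU.range_fromSpec ▸ hz
    obtain ⟨w, -, hw⟩ := Scheme.exists_preimage_of_isPullback hi0 t z ht
    rw [← hw]
    exact ⟨w, trivial, rfl⟩

theorem gr_basicOpen (y : Y) (W : (f.fiber y).affineOpens) (g : Γ(f.fiber y, W.1)) (h : GR f y W.1) :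
    GR f y ((f.fiber y).affineBasicOpen g).1 := by
  letI : Algebra ↑(Y.residueField y) ↑Γ(f.fiber y, W.1) := (fibreAlgMap f y W.1).hom.toAlgebra
  letI : Algebra ↑(Y.residueField y) ↑Γ(f.fiber y, (f.fiber y).basicOpen g) :=
    (fibreAlgMap f y ((f.fiber y).basicOpen g)).hom.toAlgebra
  haveI : IsScalarTower ↑(Y.residueField y) ↑Γ(f.fiber y, W.1) ↑Γ(f.fiber y, (f.fiber y).basicOpen g) := by
    refine IsScalarTower.of_algebraMap_eq' ?_
    show (fibreAlgMap f y ((f.fiber y).basicOpen g)).hom =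
      (fibreAlgMap f y W.1 ≫ (f.fiber y).presheaf.map (homOfLE ((f.fiber y).basicOpen_le g)).op).hom
    simp only [fibreAlgMap, Category.assoc, ← Functor.map_comp]
    rfl
  haveI := W.2.isLocalization_basicOpen g
  show CAlg.IsGeometricallyRegular ↑(Y.residueField y) ↑Γ(f.fiber y, (f.fiber y).basicOpen g)
  exact isGeometricallyRegular_away h g _

theorem gr_of_cover (y : Y) [IsLocallyNoetherian (f.fiber y)] (W : (f.fiber y).affineOpens)
    (s : Finset Γ(f.fiber y, W.1)) (hs : Ideal.span (s : Set Γ(f.fiber y, W.1)) = ⊤)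
    (h : ∀ g : s, GR f y ((f.fiber y).affineBasicOpen g.1).1) : GR f y W.1 := by
  letI : Algebra ↑(Y.residueField y) ↑Γ(f.fiber y, W.1) := (fibreAlgMap f y W.1).hom.toAlgebra
  haveI : IsNoetherianRing Γ(f.fiber y, W.1) := IsLocallyNoetherian.component_noetherian W
  refine isGeometricallyRegular_of_span (s : Set Γ(f.fiber y, W.1)) hs fun g hg => ?_
  letI : Algebra ↑(Y.residueField y) ↑Γ(f.fiber y, (f.fiber y).basicOpen g) :=
    (fibreAlgMap f y ((f.fiber y).basicOpen g)).hom.toAlgebra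
  haveI := W.2.isLocalization_basicOpen g
  haveI : IsScalarTower ↑(Y.residueField y) ↑Γ(f.fiber y, W.1) ↑Γ(f.fiber y, (f.fiber y).basicOpen g) := by
    refine IsScalarTower.of_algebraMap_eq' ?_
    show (fibreAlgMap f y ((f.fiber y).basicOpen g)).hom =
      (fibreAlgMap f y W.1 ≫ (f.fiber y).presheaf.map (homOfLE ((f.fiber y).basicOpen_le g)).op).hom
    simp only [fibreAlgMap, Category.assoc, ← Functor.map_comp]
    rfl
  exact EGA4Lib.isGeometricallyRegular_congr (↑(Y.residueField y)) _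
    ((IsLocalization.algEquiv (Submonoid.powers g) Γ(f.fiber y, (f.fiber y).basicOpen g)
      (Localization.Away g)).restrictScalars _) (h ⟨g, hg⟩)

theorem regular_iff (hN : ∀ y : Y, IsLocallyNoetherian (f.fiber y)) :
    (∀ (U : X.Opens) (V : Y.Opens) (hU : IsAffineOpen U) (hV : IsAffineOpen V) (hUV : U ≤ f ⁻¹ᵁ V),
        letI := (f.appLE V U hUV).hom.toAlgebra
        CAlg.IsRegularHom Γ(Y, V) Γ(X, U)) ↔
      Flat f ∧ ∀ (y : Y) (W : (f.fiber y).Opens), IsAffineOpen W →
        letI : Algebra ↑(Y.residueField y) ↑Γ(f.fiber y, W) := (fibreAlgMap f y W).hom.toAlgebra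
        IsNoetherianRing ↑Γ(f.fiber y, W) ∧ CAlg.IsGeometricallyRegular ↑(Y.residueField y) ↑Γ(f.fiber y, W) := by
  constructor
  · intro h
    refine ⟨(HasRingHomProperty.iff_appLE (P := @Flat)).2 fun {V U} e => ?_, fun y W hW => ⟨?_, ?_⟩⟩
    · have h1 := (h U.1 V.1 U.2 V.2 e).1
      exact h1
    · haveI := hN y
      exact IsLocallyNoetherian.component_noetherian ⟨W, hW⟩
    · haveI := hN y
      obtain ⟨_, ⟨V, hV, rfl⟩, hyV, -⟩ := Y.isBasis_affineOpens.exists_subset_of_mem_open
        (Set.mem_univ y) isOpen_univ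
      let ι := {U : X.affineOpens // U.1 ≤ f ⁻¹ᵁ V}
      choose W' hW' e E hE hmem using fun U : ι =>
        exists_fibre_chart f hV U.1.2 U.2 (hV.primeIdealOf ⟨y, hyV⟩) y (hV.fromSpec_primeIdealOf _)
      refine of_affine_open_cover (P := fun T => GR f y T.1) (fun U : ι => ⟨W' U, hW' U⟩) ?_ ⟨W, hW⟩
        (gr_basicOpen f y) (gr_of_cover f y) fun U => ?_
      · refine top_le_iff.1 fun z _ => ?_
        have hz : f.fiberι y z ∈ f ⁻¹ᵁ V := by
          show f (f.fiberι y z) ∈ V
          have hw : (f.fiberι y ≫ f) z = y := by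
            rw [f.fiber_fac y, Scheme.Hom.comp_apply]
            exact Scheme.fromSpecResidueField_apply _ _
          rw [Scheme.Hom.comp_apply] at hw
          rwa [hw]
        obtain ⟨_, ⟨U, hU, rfl⟩, hzU, hUle⟩ := X.isBasis_affineOpens.exists_subset_of_mem_open hz (f ⁻¹ᵁ V).isOpen
        exact TopologicalSpace.Opens.mem_iSup.2 ⟨⟨⟨U, hU⟩, hUle⟩, hmem _ z hzU⟩
      · letI := (f.appLE V U.1.1 U.2).hom.toAlgebra
        letI : Algebra ↑(Y.residueField y) ↑Γ(f.fiber y, W' U) := (fibreAlgMap f y (W' U)).hom.toAlgebra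
        have hreg := ((h U.1.1 V U.1.2 hV U.2).2 (hV.primeIdealOf ⟨y, hyV⟩).asIdeal).2
        refine isGeometricallyRegular_of_ringEquiv (e U).symm (E U).symm (fun x => ?_) hreg
        apply (E U).injective
        rw [RingEquiv.apply_symm_apply]
        obtain ⟨x, rfl⟩ := (e U).surjective x
        rw [RingEquiv.symm_apply_apply]
        exact (hE U x).symm
  · rintro ⟨hfl, hfib⟩ U V hU hV hUV
    letI := (f.appLE V U hUV).hom.toAlgebra
    refine ⟨HasRingHomProperty.appLE @Flat f inferInstance ⟨V, hV⟩ ⟨U, hU⟩ hUV, fun p hp => ?_⟩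
    obtain ⟨W, hW, e, E, hE, -⟩ := exists_fibre_chart f hV hU hUV ⟨p, hp⟩ (hV.fromSpec ⟨p, hp⟩) rfl
    obtain ⟨hNoeth, hreg⟩ := hfib _ W hW
    refine ⟨isNoetherianRing_of_ringEquiv _ E, ?_⟩
    letI : Algebra ↑(Y.residueField (hV.fromSpec ⟨p, hp⟩)) ↑Γ(f.fiber (hV.fromSpec ⟨p, hp⟩), W) :=
      (fibreAlgMap f _ W).hom.toAlgebra
    exact isGeometricallyRegular_of_ringEquiv e E hE hreg

end Groth.Agent.RegFibre24
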