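import Groth.Prelude.Def_EGA4b
import Groth.Agent.RegFibre24.Basic
import Groth.Agent.GeomFieldLib.HomBC
import Groth.Agent.GeomLoc.Regular
import Groth.Agent.Thick.Unram
import Groth.Agent.Thick.FlatCancel
import Groth.Agent.CycLib.Residue
import Groth.Agent.FDesc.Algebra

/-!
# Properties of fibre rings over fields and fppf base change
-/

set_option autoImplicit false
set_option linter.style.haveILetI false

universe u

open AlgebraicGeometry CategoryTheory Limits TensorProduct

namespace Groth.Agent.RegFibre24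

/-- A property of algebras over fields which is local and insensitive to field extensions. -/
structure FieldProp : Type (u + 1) where
  P : ∀ (k S : Type u) [Field k] [CommRing S] [Algebra k S], Prop
  congr : ∀ {k k' S S' : Type u} [Field k] [Field k'] [CommRing S] [CommRing S'] [Algebra k S] [Algebra k' S']
    (e : k ≃+* k') (f : S ≃+* S'), (∀ x, f (algebraMap k S x) = algebraMap k' S' (e x)) → P k S → P k' S'
  away : ∀ {k S : Type u} [Field k] [CommRing S] [Algebra k S] (g : S) (T : Type u) [CommRing T]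
    [Algebra k T] [Algebra S T] [IsScalarTower k S T] [IsLocalization.Away g T], P k S → P k T
  span : ∀ {k S : Type u} [Field k] [CommRing S] [Algebra k S] [IsNoetherianRing S] (s : Set S),
    Ideal.span s = ⊤ → (∀ g ∈ s, P k (Localization.Away g)) → P k S
  extend : ∀ (k K S : Type u) [Field k] [Field K] [Algebra k K] [CommRing S] [Algebra k S]
    [IsNoetherianRing S] [IsNoetherianRing (K ⊗[k] S)], P k S → P K (K ⊗[k] S)
  descend : ∀ (k K S : Type u) [Field k] [Field K] [Algebra k K] [CommRing S] [Algebra k S]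
    [IsNoetherianRing S], P K (K ⊗[k] S) → P k S

/-- Geometric regularity. -/
def regularProp : FieldProp.{u} where
  P k S := CAlg.IsGeometricallyRegular k S
  congr e f hc h := isGeometricallyRegular_of_ringEquiv e f hc h
  away g T _ _ _ _ _ h := isGeometricallyRegular_away h g T
  span s hs h := isGeometricallyRegular_of_span s hs h
  extend k K S _ _ _ _ _ _ _ h := GeomFieldLib.isGeometricallyRegular_extend k K S h
  descend k K S _ _ _ _ _ _ h := GeomFieldLib.isGeometricallyRegular_of_baseChange k K S h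

theorem isGeomNormal_of_ringEquiv {k k' S S' : Type u} [Field k] [Field k'] [CommRing S]
    [CommRing S'] [Algebra k S] [Algebra k' S'] (e : k ≃+* k') (f : S ≃+* S')
    (hc : ∀ x, f (algebraMap k S x) = algebraMap k' S' (e x)) (h : EGA4.IsGeomNormal k S) :
    EGA4.IsGeomNormal k' S' := by
  letI : Algebra k k' := e.toRingHom.toAlgebra
  haveI : Module.Finite k k' := Module.Finite.of_surjective (Algebra.linearMap k k') e.surjective
  letI : Algebra k S' := ((algebraMap k' S').comp e.toRingHom).toAlgebra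
  haveI : IsScalarTower k k' S' := IsScalarTower.of_algebraMap_eq fun _ => rfl
  let f' : S →ₐ[k] S' := { f.toRingHom with commutes' := hc }
  let ψ : k' ⊗[k] S →ₐ[k'] S' :=
    Algebra.TensorProduct.lift (Algebra.ofId k' S') f' fun _ _ => Commute.all _ _
  have hψ : ∀ s, ψ ((1 : k') ⊗ₜ[k] s) = f s := fun s => by
    rw [Algebra.TensorProduct.lift_tmul, map_one, one_mul]
    rfl
  have hone : ∀ x : k' ⊗[k] S, ∃ s, x = (1 : k') ⊗ₜ[k] s := by
    intro x
    induction x using TensorProduct.induction_on with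
    | zero => exact ⟨0, by rw [TensorProduct.tmul_zero]⟩
    | tmul a s =>
      obtain ⟨a, rfl⟩ := e.surjective a
      refine ⟨a • s, ?_⟩
      rw [← TensorProduct.smul_tmul, Algebra.smul_def, mul_one]
      rfl
    | add x y hx hy =>
      obtain ⟨s, rfl⟩ := hx
      obtain ⟨t, rfl⟩ := hy
      exact ⟨s + t, (TensorProduct.tmul_add _ _ _).symm⟩
  have hbij : Function.Bijective ψ := by
    refine ⟨fun x y hxy => ?_, fun t => ⟨(1 : k') ⊗ₜ[k] f.symm t, by rw [hψ, f.apply_symm_apply]⟩⟩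
    obtain ⟨s, rfl⟩ := hone x
    obtain ⟨t, rfl⟩ := hone y
    rw [hψ, hψ] at hxy
    rw [f.injective hxy]
  exact EGA4Lib.isGeomNormal_congr k' _ (AlgEquiv.ofBijective ψ hbij)
    (EGA4Lib.isGeomNormal_baseChange k k' S h)

theorem isGeomNormal_away {k S : Type u} [Field k] [CommRing S] [Algebra k S] (g : S) (T : Type u) [CommRing T]
    [Algebra k T] [Algebra S T] [IsScalarTower k S T] [IsLocalization.Away g T]
    (h : EGA4.IsGeomNormal k S) : EGA4.IsGeomNormal k T := fun L _ _ hL =>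
  EGA4Lib.isNormalRing_of_ringEquiv
    (IsLocalization.Away.tensorProductEquivTMulRight k L g T).symm.toRingEquiv
    (EGA4Lib.isNormalRing_of_isLocalization (Submonoid.powers ((1 : L) ⊗ₜ[k] g : L ⊗[k] S)) (h L hL))

theorem isGeomNormal_of_span {k S : Type u} [Field k] [CommRing S] [Algebra k S] (s : Set S)
    (hs : Ideal.span s = ⊤) (h : ∀ g ∈ s, EGA4.IsGeomNormal k (Localization.Away g)) :
    EGA4.IsGeomNormal k S := by
  intro L _ _ hL Q _
  obtain ⟨g, hg, hgQ⟩ : ∃ g ∈ s, ((1 : L) ⊗ₜ[k] g : L ⊗[k] S) ∉ Q := by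
    by_contra! hc
    have hle : Ideal.span s ≤ Q.comap (Algebra.TensorProduct.includeRight : S →ₐ[k] L ⊗[k] S).toRingHom :=
      Ideal.span_le.2 fun g hg => hc g hg
    rw [hs, top_le_iff, Ideal.comap_eq_top_iff] at hle
    exact Ideal.IsPrime.ne_top inferInstance hle
  let x : L ⊗[k] S := (1 : L) ⊗ₜ[k] g
  let T := Localization.Away x
  have hT : EGA4.IsNormalRing T := EGA4Lib.isNormalRing_of_ringEquiv
    (IsLocalization.Away.tensorProductEquivTMulRight k L g (Localization.Away g)).toRingEquiv (h g hg L hL)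
  have hdisj : Disjoint (Submonoid.powers x : Set (L ⊗[k] S)) (Q : Set (L ⊗[k] S)) := by
    rw [Set.disjoint_left]
    rintro _ ⟨n, rfl⟩ hn
    exact hgQ (Ideal.IsPrime.mem_of_pow_mem ‹_› n hn)
  let Q' := Q.map (algebraMap (L ⊗[k] S) T)
  haveI hQT : Q'.IsPrime := IsLocalization.isPrime_of_isPrime_disjoint (Submonoid.powers x) T Q ‹_› hdisj
  have hcomap : Q'.comap (algebraMap (L ⊗[k] S) T) = Q :=
    IsLocalization.comap_map_of_isPrime_disjoint (Submonoid.powers x) T ‹Q.IsPrime› hdisj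
  haveI : IsLocalization.AtPrime (Localization.AtPrime Q') (Q'.comap (algebraMap (L ⊗[k] S) T)) :=
    IsLocalization.isLocalization_isLocalization_atPrime_isLocalization (M := Submonoid.powers x)
      (Localization.AtPrime Q') Q'
  have key : ∀ (I J : Ideal (L ⊗[k] S)) [I.IsPrime] [J.IsPrime], I = J →
      (IsDomain (Localization.AtPrime I) ∧ IsIntegrallyClosed (Localization.AtPrime I)) →
      (IsDomain (Localization.AtPrime J) ∧ IsIntegrallyClosed (Localization.AtPrime J)) := by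
    intro I J _ _ h; subst h; exact id
  refine key _ _ hcomap ?_
  let e := (IsLocalization.algEquiv (Q'.comap (algebraMap (L ⊗[k] S) T)).primeCompl (Localization.AtPrime Q')
    (Localization.AtPrime (Q'.comap (algebraMap (L ⊗[k] S) T)))).toRingEquiv
  haveI := (hT Q').1
  haveI := (hT Q').2
  exact ⟨e.symm.toMulEquiv.isDomain _, IsIntegrallyClosed.of_equiv e⟩

/-- Geometric normality. -/
def normalProp : FieldProp.{u} where
  P k S := EGA4.IsGeomNormal k S
  congr e f hc h := isGeomNormal_of_ringEquiv e f hc h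
  away g T _ _ _ _ _ h := isGeomNormal_away g T h
  span s hs h := isGeomNormal_of_span s hs h
  extend k K S _ _ _ _ _ _ _ h := GeomFieldLib.isGeomNormal_extend k K S h
  descend k K S _ _ _ _ _ _ h := GeomFieldLib.isGeomNormal_of_baseChange k K S h

variable (Φ : FieldProp.{u}) {X Y : Scheme.{u}} (f : X ⟶ Y)

/-- The property on an affine open of a fibre. -/
def FieldProp.onFibre (y : Y) (W : (f.fiber y).Opens) : Prop :=
  letI : Algebra ↑(Y.residueField y) ↑Γ(f.fiber y, W) := (fibreAlgMap f y W).hom.toAlgebra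
  Φ.P ↑(Y.residueField y) ↑Γ(f.fiber y, W)

/-- Flat with the property on all affine opens of all fibres, the latter being locally Noetherian. -/
def FieldProp.Geom : Prop :=
  (∀ y : Y, IsLocallyNoetherian (f.fiber y)) ∧ Flat f ∧
    ∀ (y : Y) (W : (f.fiber y).Opens), IsAffineOpen W → Φ.onFibre f y W

/-- Flat with the property on all algebraic fibres, the fibres being locally Noetherian. -/
def FieldProp.Hom : Prop :=
  (∀ y : Y, IsLocallyNoetherian (f.fiber y)) ∧
    ∀ (U : X.Opens) (V : Y.Opens) (_ : IsAffineOpen U) (_ : IsAffineOpen V) (hUV : U ≤ f ⁻¹ᵁ V),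
      letI := (f.appLE V U hUV).hom.toAlgebra
      Module.Flat Γ(Y, V) Γ(X, U) ∧ ∀ (p : Ideal Γ(Y, V)) [p.IsPrime], Φ.P p.ResidueField (p.Fiber Γ(X, U))

theorem isNoetherianRing_fiber (hN : ∀ y : Y, IsLocallyNoetherian (f.fiber y)) {U : X.Opens} {V : Y.Opens}
    (hU : IsAffineOpen U) (hV : IsAffineOpen V) (hUV : U ≤ f ⁻¹ᵁ V) :
    letI := (f.appLE V U hUV).hom.toAlgebra
    ∀ (p : Ideal Γ(Y, V)) [p.IsPrime], IsNoetherianRing (p.Fiber Γ(X, U)) := by
  letI := (f.appLE V U hUV).hom.toAlgebra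
  intro p hp
  obtain ⟨W, hW, e, E, -, -⟩ := exists_fibre_chart f hV hU hUV ⟨p, hp⟩ (hV.fromSpec ⟨p, hp⟩) rfl
  haveI := hN (hV.fromSpec ⟨p, hp⟩)
  haveI : IsNoetherianRing Γ(f.fiber (hV.fromSpec ⟨p, hp⟩), W) := IsLocallyNoetherian.component_noetherian ⟨W, hW⟩
  exact isNoetherianRing_of_ringEquiv _ E

theorem FieldProp.onFibre_basicOpen (y : Y) (W : (f.fiber y).affineOpens) (g : Γ(f.fiber y, W.1))
    (h : Φ.onFibre f y W.1) : Φ.onFibre f y ((f.fiber y).affineBasicOpen g).1 := by
  letI : Algebra ↑(Y.residueField y) ↑Γ(f.fiber y, W.1) := (fibreAlgMap f y W.1).hom.toAlgebra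
  letI : Algebra ↑(Y.residueField y) ↑Γ(f.fiber y, (f.fiber y).basicOpen g) :=
    (fibreAlgMap f y ((f.fiber y).basicOpen g)).hom.toAlgebra
  haveI : IsScalarTower ↑(Y.residueField y) ↑Γ(f.fiber y, W.1) ↑Γ(f.fiber y, (f.fiber y).basicOpen g) := by
    refine IsScalarTower.of_algebraMap_eq' ?_
    show (fibreAlgMap f y ((f.fiber y).basicOpen g)).hom =
      (fibreAlgMap f y W.1 ≫ (f.fiber y).presheaf.map (homOfLE ((f.fiber y).basicOpen_le g)).op).hom
    simp only [fibreAlgMap, Category.assoc, ← Functor.map_comp]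
    rfl
  haveI := W.2.isLocalization_basicOpen g
  show Φ.P ↑(Y.residueField y) ↑Γ(f.fiber y, (f.fiber y).basicOpen g)
  exact Φ.away g _ h

theorem FieldProp.onFibre_of_cover (y : Y) [IsLocallyNoetherian (f.fiber y)] (W : (f.fiber y).affineOpens)
    (s : Finset Γ(f.fiber y, W.1)) (hs : Ideal.span (s : Set Γ(f.fiber y, W.1)) = ⊤)
    (h : ∀ g : s, Φ.onFibre f y ((f.fiber y).affineBasicOpen g.1).1) : Φ.onFibre f y W.1 := by
  letI : Algebra ↑(Y.residueField y) ↑Γ(f.fiber y, W.1) := (fibreAlgMap f y W.1).hom.toAlgebra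
  haveI : IsNoetherianRing Γ(f.fiber y, W.1) := IsLocallyNoetherian.component_noetherian W
  refine Φ.span (s : Set Γ(f.fiber y, W.1)) hs fun g hg => ?_
  letI : Algebra ↑(Y.residueField y) ↑Γ(f.fiber y, (f.fiber y).basicOpen g) :=
    (fibreAlgMap f y ((f.fiber y).basicOpen g)).hom.toAlgebra
  haveI := W.2.isLocalization_basicOpen g
  haveI : IsScalarTower ↑(Y.residueField y) ↑Γ(f.fiber y, W.1) ↑Γ(f.fiber y, (f.fiber y).basicOpen g) := by
    refine IsScalarTower.of_algebraMap_eq' ?_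
    show (fibreAlgMap f y ((f.fiber y).basicOpen g)).hom =
      (fibreAlgMap f y W.1 ≫ (f.fiber y).presheaf.map (homOfLE ((f.fiber y).basicOpen_le g)).op).hom
    simp only [fibreAlgMap, Category.assoc, ← Functor.map_comp]
    rfl
  let ε := (IsLocalization.algEquiv (Submonoid.powers g) Γ(f.fiber y, (f.fiber y).basicOpen g)
      (Localization.Away g)).restrictScalars ↑(Y.residueField y)
  exact Φ.congr (RingEquiv.refl _) ε.toRingEquiv (fun x => ε.commutes x) (h ⟨g, hg⟩)

theorem FieldProp.hom_iff_geom : Φ.Hom f ↔ Φ.Geom f := by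
  constructor
  · rintro ⟨hN, h⟩
    refine ⟨hN, (HasRingHomProperty.iff_appLE (P := @Flat)).2 fun {V U} e => (h U.1 V.1 U.2 V.2 e).1,
      fun y W hW => ?_⟩
    haveI := hN y
    obtain ⟨_, ⟨V, hV, rfl⟩, hyV, -⟩ := Y.isBasis_affineOpens.exists_subset_of_mem_open
      (Set.mem_univ y) isOpen_univ
    let ι := {U : X.affineOpens // U.1 ≤ f ⁻¹ᵁ V}
    choose W' hW' e E hE hmem using fun U : ι =>
      exists_fibre_chart f hV U.1.2 U.2 (hV.primeIdealOf ⟨y, hyV⟩) y (hV.fromSpec_primeIdealOf _)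
    refine of_affine_open_cover (P := fun T => Φ.onFibre f y T.1) (fun U : ι => ⟨W' U, hW' U⟩) ?_ ⟨W, hW⟩
      (Φ.onFibre_basicOpen f y) (Φ.onFibre_of_cover f y) fun U => ?_
    · refine top_le_iff.1 fun z _ => ?_
      have hz : f.fiberι y z ∈ f ⁻¹ᵁ V := by
        show f (f.fiberι y z) ∈ V
        have hw : (f.fiberι y ≫ f) z = y := by
          rw [f.fiber_fac y, Scheme.Hom.comp_apply]
          exact Scheme.fromSpecResidueField_apply _ _
        rw [Scheme.Hom.comp_apply] at hw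
        rwa [hw]
      obtain ⟨_, ⟨U, hU, rfl⟩, hzU, hUle⟩ := X.isBasis_affineOpens.exists_subset_of_mem_open hz (f ⁻¹ᵁ V).isOpen
      exact TopologicalSpace.Opens.mem_iSup.2 ⟨⟨⟨U, hU⟩, hUle⟩, hmem _ z hzU⟩
    · letI := (f.appLE V U.1.1 U.2).hom.toAlgebra
      letI : Algebra ↑(Y.residueField y) ↑Γ(f.fiber y, W' U) := (fibreAlgMap f y (W' U)).hom.toAlgebra
      have hreg := (h U.1.1 V U.1.2 hV U.2).2 (hV.primeIdealOf ⟨y, hyV⟩).asIdeal
      refine Φ.congr (e U).symm (E U).symm (fun x => ?_) hreg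
      apply (E U).injective
      rw [RingEquiv.apply_symm_apply]
      obtain ⟨x, rfl⟩ := (e U).surjective x
      rw [RingEquiv.symm_apply_apply]
      exact (hE U x).symm
  · rintro ⟨hN, hfl, hfib⟩
    refine ⟨hN, fun U V hU hV hUV => ?_⟩
    letI := (f.appLE V U hUV).hom.toAlgebra
    refine ⟨HasRingHomProperty.appLE @Flat f inferInstance ⟨V, hV⟩ ⟨U, hU⟩ hUV, fun p hp => ?_⟩
    obtain ⟨W, hW, e, E, hE, -⟩ := exists_fibre_chart f hV hU hUV ⟨p, hp⟩ (hV.fromSpec ⟨p, hp⟩) rfl
    letI : Algebra ↑(Y.residueField (hV.fromSpec ⟨p, hp⟩)) ↑Γ(f.fiber (hV.fromSpec ⟨p, hp⟩), W) :=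
      (fibreAlgMap f _ W).hom.toAlgebra
    exact Φ.congr e E hE (hfib _ W hW)

variable {X' Y' : Scheme.{u}} {f' : X' ⟶ Y'} {g' : X' ⟶ X} {g : Y' ⟶ Y}

/-- Flatness descends along a flat surjective base change. -/
theorem flat_of_isPullback [Flat g] [Surjective g] (hc : IsPullback g' f' f g) [Flat f'] : Flat f := by
  haveI : Flat g' := MorphismProperty.of_isPullback hc.flip inferInstance
  haveI : Surjective g' := MorphismProperty.of_isPullback hc.flip inferInstance
  haveI : Flat (g' ≫ f) := by rw [hc.w]; infer_instance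
  exact Thick.FlatCancel.flat_of_comp g' f

/-- The map on fibres, as a base change along the extension of residue fields. -/
theorem exists_fibre_extension (hc : IsPullback g' f' f g) (y' : Y') (W : (f.fiber (g y')).affineOpens) :
    ∃ (π : f'.fiber y' ⟶ f.fiber (g y')) (_ : IsAffineHom π) (_ : Surjective π)
      (W' : (f'.fiber y').affineOpens), W'.1 = π ⁻¹ᵁ W.1 ∧
      π = pullback.map _ _ _ _ g' (Spec.map (g.residueFieldMap y')) g hc.w.symm (by simp) ∧
      letI : Algebra ↑(Y.residueField (g y')) ↑Γ(f.fiber (g y'), W.1) := (fibreAlgMap f (g y') W.1).hom.toAlgebra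
      letI : Algebra ↑(Y'.residueField y') ↑Γ(f'.fiber y', W'.1) := (fibreAlgMap f' y' W'.1).hom.toAlgebra
      letI : Algebra ↑(Y.residueField (g y')) ↑(Y'.residueField y') := (g.residueFieldMap y').hom.toAlgebra
      Nonempty (↑(Y'.residueField y') ⊗[↑(Y.residueField (g y'))] ↑Γ(f.fiber (g y'), W.1) ≃ₐ[↑(Y'.residueField y')]
        ↑Γ(f'.fiber y', W'.1)) := by
  let π : f'.fiber y' ⟶ f.fiber (g y') :=
    pullback.map _ _ _ _ g' (Spec.map (g.residueFieldMap y')) g hc.w.symm (by simp)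
  have hpb : IsPullback π (f'.fiberToSpecResidueField y') (f.fiberToSpecResidueField (g y'))
      (Spec.map (g.residueFieldMap y')) := isPullback_fiberToSpecResidueField_of_isPullback hc y'
  haveI : IsAffineHom π := MorphismProperty.of_isPullback hpb.flip inferInstance
  haveI : Surjective (Spec.map (g.residueFieldMap y')) := ⟨fun t => ⟨default, Subsingleton.elim _ _⟩⟩
  haveI : Surjective π := MorphismProperty.of_isPullback hpb.flip inferInstance
  refine ⟨π, inferInstance, inferInstance, ⟨π ⁻¹ᵁ W.1, W.2.preimage π⟩, rfl, rfl, ?_⟩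
  obtain ⟨h', hpush⟩ := Thick.Unram.isPushout_appLE hpb (isAffineOpen_top (Spec (Y.residueField (g y')))) W.2
    (show W.1 ≤ f.fiberToSpecResidueField (g y') ⁻¹ᵁ ⊤ from le_top)
  have hbig : IsPushout (fibreAlgMap f (g y') W.1) (g.residueFieldMap y') (π.app W.1)
      (fibreAlgMap f' y' (π ⁻¹ᵁ W.1)) := by
    refine hpush.of_iso (Scheme.ΓSpecIso (Y.residueField (g y'))) (Iso.refl _)
      (Scheme.ΓSpecIso (Y'.residueField y')) (Iso.refl _) ?_ ?_ ?_ ?_
    · simp only [fibreAlgMap, Iso.refl_hom, Category.comp_id, Iso.hom_inv_id_assoc]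
      rfl
    · exact Scheme.ΓSpecIso_naturality (g.residueFieldMap y')
    · simp
    · simp only [fibreAlgMap, Iso.refl_hom, Category.comp_id]
      exact (Iso.hom_inv_id_assoc _ _).symm
  letI : Algebra ↑(Y.residueField (g y')) ↑Γ(f.fiber (g y'), W.1) := (fibreAlgMap f (g y') W.1).hom.toAlgebra
  letI : Algebra ↑(Y'.residueField y') ↑Γ(f'.fiber y', π ⁻¹ᵁ W.1) := (fibreAlgMap f' y' (π ⁻¹ᵁ W.1)).hom.toAlgebra
  letI : Algebra ↑(Y.residueField (g y')) ↑(Y'.residueField y') := (g.residueFieldMap y').hom.toAlgebra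
  letI : Algebra ↑Γ(f.fiber (g y'), W.1) ↑Γ(f'.fiber y', π ⁻¹ᵁ W.1) := (π.app W.1).hom.toAlgebra
  letI : Algebra ↑(Y.residueField (g y')) ↑Γ(f'.fiber y', π ⁻¹ᵁ W.1) :=
    ((π.app W.1).hom.comp (fibreAlgMap f (g y') W.1).hom).toAlgebra
  haveI : IsScalarTower ↑(Y.residueField (g y')) ↑Γ(f.fiber (g y'), W.1) ↑Γ(f'.fiber y', π ⁻¹ᵁ W.1) :=
    IsScalarTower.of_algebraMap_eq fun _ => rfl
  haveI : IsScalarTower ↑(Y.residueField (g y')) ↑(Y'.residueField y') ↑Γ(f'.fiber y', π ⁻¹ᵁ W.1) :=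
    IsScalarTower.of_algebraMap_eq fun r => congrArg (fun m => m.hom r) hbig.w
  haveI hpo : Algebra.IsPushout ↑(Y.residueField (g y')) ↑(Y'.residueField y') ↑Γ(f.fiber (g y'), W.1)
      ↑Γ(f'.fiber y', π ⁻¹ᵁ W.1) := CommRingCat.isPushout_iff_isPushout.1 hbig.flip
  exact ⟨Algebra.IsPushout.equiv ↑(Y.residueField (g y')) ↑(Y'.residueField y') ↑Γ(f.fiber (g y'), W.1)
      ↑Γ(f'.fiber y', π ⁻¹ᵁ W.1)⟩

theorem FieldProp.geom_baseChange_iff [Flat g] [LocallyOfFiniteType g] [Surjective g]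
    (hc : IsPullback g' f' f g) : Φ.Geom f ↔ Φ.Geom f' := by
  constructor
  · rintro ⟨hN, hfl, hfib⟩
    have hN' : ∀ y', IsLocallyNoetherian (f'.fiber y') := by
      intro y'
      haveI := hN (g y')
      letI : Algebra ↑(Y.residueField (g y')) ↑(Y'.residueField y') := (g.residueFieldMap y').hom.toAlgebra
      haveI : Algebra.EssFiniteType ↑(Y.residueField (g y')) ↑(Y'.residueField y') :=
        CycLib.residueFieldMap_essFiniteType g y'
      choose π hπ hπs W' hW' hπe E using exists_fibre_extension f hc y'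
      refine isLocallyNoetherian_of_affine_cover (S := W') ?_ fun W => ?_
      · refine top_le_iff.1 fun z _ => ?_
        let π₀ : f'.fiber y' ⟶ f.fiber (g y') :=
          pullback.map _ _ _ _ g' (Spec.map (g.residueFieldMap y')) g hc.w.symm (by simp)
        obtain ⟨_, ⟨O, hO, rfl⟩, hzO, -⟩ := (f.fiber (g y')).isBasis_affineOpens.exists_subset_of_mem_open
          (Set.mem_univ (π₀ z)) isOpen_univ
        refine TopologicalSpace.Opens.mem_iSup.2 ⟨⟨O, hO⟩, ?_⟩
        show z ∈ (W' ⟨O, hO⟩).1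
        rw [hW', hπe]
        exact hzO
      · letI : Algebra ↑(Y.residueField (g y')) ↑Γ(f.fiber (g y'), W.1) := (fibreAlgMap f (g y') W.1).hom.toAlgebra
        haveI : IsNoetherianRing Γ(f.fiber (g y'), W.1) := IsLocallyNoetherian.component_noetherian W
        obtain ⟨ε⟩ := E W
        letI : Algebra ↑(Y'.residueField y') ↑Γ(f'.fiber y', (W' W).1) := (fibreAlgMap f' y' (W' W).1).hom.toAlgebra
        haveI := (GeomLoc.isNoetherianRing_tensor_fg (k := ↑(Y.residueField (g y')))
          (R := ↑Γ(f.fiber (g y'), W.1)) ↑(Y'.residueField y')).2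
        exact isNoetherianRing_of_ringEquiv _ ε.toRingEquiv
    refine ⟨hN', MorphismProperty.of_isPullback hc hfl, fun y' T hT => ?_⟩
    haveI := hN (g y')
    haveI := hN' y'
    letI : Algebra ↑(Y.residueField (g y')) ↑(Y'.residueField y') := (g.residueFieldMap y').hom.toAlgebra
    haveI : Algebra.EssFiniteType ↑(Y.residueField (g y')) ↑(Y'.residueField y') :=
      CycLib.residueFieldMap_essFiniteType g y'
    choose π hπ hπs W' hW' hπe E using exists_fibre_extension f hc y'
    refine of_affine_open_cover (P := fun T => Φ.onFibre f' y' T.1) W' ?_ ⟨T, hT⟩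
      (Φ.onFibre_basicOpen f' y') (Φ.onFibre_of_cover f' y') fun W => ?_
    · refine top_le_iff.1 fun z _ => ?_
      let π₀ : f'.fiber y' ⟶ f.fiber (g y') :=
        pullback.map _ _ _ _ g' (Spec.map (g.residueFieldMap y')) g hc.w.symm (by simp)
      obtain ⟨_, ⟨O, hO, rfl⟩, hzO, -⟩ := (f.fiber (g y')).isBasis_affineOpens.exists_subset_of_mem_open
        (Set.mem_univ (π₀ z)) isOpen_univ
      refine TopologicalSpace.Opens.mem_iSup.2 ⟨⟨O, hO⟩, ?_⟩
      show z ∈ (W' ⟨O, hO⟩).1
      rw [hW', hπe]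
      exact hzO
    · letI : Algebra ↑(Y.residueField (g y')) ↑Γ(f.fiber (g y'), W.1) := (fibreAlgMap f (g y') W.1).hom.toAlgebra
      letI : Algebra ↑(Y'.residueField y') ↑Γ(f'.fiber y', (W' W).1) := (fibreAlgMap f' y' (W' W).1).hom.toAlgebra
      haveI : IsNoetherianRing Γ(f.fiber (g y'), W.1) := IsLocallyNoetherian.component_noetherian W
      obtain ⟨ε⟩ := E W
      haveI := (GeomLoc.isNoetherianRing_tensor_fg (k := ↑(Y.residueField (g y')))
        (R := ↑Γ(f.fiber (g y'), W.1)) ↑(Y'.residueField y')).2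
      exact Φ.congr (RingEquiv.refl _) ε.toRingEquiv (fun x => ε.commutes x)
        (Φ.extend _ _ _ (hfib (g y') W.1 W.2))
  · rintro ⟨hN', hfl, hfib⟩
    have hN : ∀ y, IsLocallyNoetherian (f.fiber y) := by
      intro y
      obtain ⟨y', rfl⟩ := g.surjective y
      haveI := hN' y'
      letI : Algebra ↑(Y.residueField (g y')) ↑(Y'.residueField y') := (g.residueFieldMap y').hom.toAlgebra
      refine isLocallyNoetherian_of_affine_cover (S := fun W : (f.fiber (g y')).affineOpens => W)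
        (iSup_affineOpens_eq_top _) fun W => ?_
      letI : Algebra ↑(Y.residueField (g y')) ↑Γ(f.fiber (g y'), W.1) := (fibreAlgMap f (g y') W.1).hom.toAlgebra
      obtain ⟨π, _, _, W', -, -, ⟨ε⟩⟩ := exists_fibre_extension f hc y' W
      letI : Algebra ↑(Y'.residueField y') ↑Γ(f'.fiber y', W'.1) := (fibreAlgMap f' y' W'.1).hom.toAlgebra
      haveI : IsNoetherianRing Γ(f'.fiber y', W'.1) := IsLocallyNoetherian.component_noetherian W'
      haveI : IsNoetherianRing (↑(Y'.residueField y') ⊗[↑(Y.residueField (g y'))] ↑Γ(f.fiber (g y'), W.1)) :=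
        isNoetherianRing_of_ringEquiv _ ε.symm.toRingEquiv
      let S := ↑Γ(f.fiber (g y'), W.1)
      let K := ↑(Y'.residueField y')
      haveI : IsNoetherianRing (S ⊗[↑(Y.residueField (g y'))] K) :=
        isNoetherianRing_of_ringEquiv _ (Algebra.TensorProduct.comm _ K S).toRingEquiv
      exact GeomLoc.isNoetherianRing_of_faithfullyFlat S (S ⊗[↑(Y.residueField (g y'))] K)
    haveI := hfl
    refine ⟨hN, flat_of_isPullback f hc, fun y W hW => ?_⟩
    obtain ⟨y', rfl⟩ := g.surjective y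
    haveI := hN (g y')
    letI : Algebra ↑(Y.residueField (g y')) ↑(Y'.residueField y') := (g.residueFieldMap y').hom.toAlgebra
    letI : Algebra ↑(Y.residueField (g y')) ↑Γ(f.fiber (g y'), W) := (fibreAlgMap f (g y') W).hom.toAlgebra
    haveI : IsNoetherianRing Γ(f.fiber (g y'), W) := IsLocallyNoetherian.component_noetherian ⟨W, hW⟩
    obtain ⟨π, _, _, W', -, -, ⟨ε⟩⟩ := exists_fibre_extension f hc y' ⟨W, hW⟩
    letI : Algebra ↑(Y'.residueField y') ↑Γ(f'.fiber y', W'.1) := (fibreAlgMap f' y' W'.1).hom.toAlgebra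
    exact Φ.descend _ ↑(Y'.residueField y') _
      (Φ.congr (RingEquiv.refl _) ε.symm.toRingEquiv (fun x => ε.symm.commutes x) (hfib y' W'.1 W'.2))

theorem FieldProp.hom_baseChange_iff [Flat g] [LocallyOfFiniteType g] [Surjective g]
    (hc : IsPullback g' f' f g) : Φ.Hom f ↔ Φ.Hom f' :=
  (Φ.hom_iff_geom f).trans ((Φ.geom_baseChange_iff f hc).trans (Φ.hom_iff_geom f').symm)

theorem regularProp_hom_iff {X Y : Scheme.{u}} (f : X ⟶ Y) :
    regularProp.Hom f ↔ ((∀ y : Y, IsLocallyNoetherian (f.fiber y)) ∧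
      ∀ (U : X.Opens) (V : Y.Opens) (hU : IsAffineOpen U) (hV : IsAffineOpen V) (hUV : U ≤ f ⁻¹ᵁ V),
        letI := (f.appLE V U hUV).hom.toAlgebra
        CAlg.IsRegularHom Γ(Y, V) Γ(X, U)) := by
  refine and_congr_right fun hN => ⟨fun h U V hU hV hUV => ⟨(h U V hU hV hUV).1, fun p hp =>
    ⟨isNoetherianRing_fiber f hN hU hV hUV p, (h U V hU hV hUV).2 p⟩⟩,
    fun h U V hU hV hUV => ⟨(h U V hU hV hUV).1, fun p hp => ((h U V hU hV hUV).2 p).2⟩⟩

end Groth.Agent.RegFibre24
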